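import Mathlib.GroupTheory.Sylow
import Mathlib.GroupTheory.Nilpotent
import Mathlib.GroupTheory.Perm.Cycle.Type
import Mathlib.GroupTheory.GroupAction.Quotient
import Mathlib.Tactic.Group

/-!
# An involution fixing one point, whose commuting distinct conjugates have products fixing one point

Owner: helper34. Namespace `Cfsg.Agent.Lib.UniquePointInvolution`.

Main result `exists_central_conj`: such an involution centralizes a Sylow 2-subgroup.
-/

set_option autoImplicit false

open Subgroup MulAction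

namespace Cfsg.Agent.Lib.UniquePointInvolution

variable {G : Type*} [Group G]

theorem invol_semiconj {a b : G} (ha : a * a = 1) (hb : b * b = 1) (k : ℕ) :
    a * (a * b) ^ k = ((a * b) ^ k)⁻¹ * a := by
  have h : SemiconjBy a (a * b) (a * b)⁻¹ := by
    have e : a⁻¹ = a := inv_eq_of_mul_eq_one_right ha
    have e' : b⁻¹ = b := inv_eq_of_mul_eq_one_right hb
    show a * (a * b) = (a * b)⁻¹ * a
    rw [mul_inv_rev, e, e', ← mul_assoc, ha, one_mul, mul_assoc, ha, mul_one]
  have := (h.pow_right k).eq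
  rwa [inv_pow] at this

/-- Two involutions whose product has even order. -/
theorem exists_of_even {a b : G} (ha : a * a = 1) (hb : b * b = 1)
    (hev : Even (orderOf (a * b))) [Finite G] :
    ∃ w : G, w ≠ 1 ∧ w * w = 1 ∧ Commute a w ∧ Commute b w ∧ w ∈ Subgroup.zpowers (a * b) ∧
      ((∃ c : G, c * a * c⁻¹ = a * w) ∨ ∃ c : G, c * b * c⁻¹ = a * w) := by
  obtain ⟨m, hm⟩ := hev
  have hn : 0 < orderOf (a * b) := orderOf_pos _
  set w := (a * b) ^ m with hw
  have hw2 : w * w = 1 := by rw [hw, ← pow_add, ← hm, pow_orderOf_eq_one]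
  have hw1 : w ≠ 1 := pow_ne_one_of_lt_orderOf (by omega) (by omega)
  have hwi : w⁻¹ = w := inv_eq_of_mul_eq_one_right hw2
  have haw : Commute a w := by
    show a * w = w * a
    rw [hw, invol_semiconj ha hb, ← hw, hwi]
  have hbw : Commute b w := by
    have e : b = a * (a * b) := by rw [← mul_assoc, ha, one_mul]
    rw [e]
    exact haw.mul_left (by rw [hw]; exact Commute.self_pow (a * b) m)
  refine ⟨w, hw1, hw2, haw, hbw, Subgroup.pow_mem _ (Subgroup.mem_zpowers _) _, ?_⟩
  rcases Nat.even_or_odd m with ⟨l, rfl⟩ | ⟨l, rfl⟩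
  · refine Or.inl ⟨((a * b) ^ l)⁻¹, ?_⟩
    rw [inv_inv, hw, pow_add, ← mul_assoc a, invol_semiconj ha hb]
  · refine Or.inr ⟨((a * b) ^ l)⁻¹, ?_⟩
    have e : b = a * (a * b) := by rw [← mul_assoc, ha, one_mul]
    rw [inv_inv, hw, show 2 * l + 1 = l + 1 + l by ring, pow_add, pow_succ, ← mul_assoc a,
      ← mul_assoc a, invol_semiconj ha hb]
    nth_rw 2 [e]
    simp only [mul_assoc]

/-- Two involutions with product of odd order are exchanged by a conjugate of the first. -/
theorem exists_of_odd {a b : G} (ha : a * a = 1) (hb : b * b = 1)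
    (hodd : Odd (orderOf (a * b))) :
    ∃ e c : G, c * a * c⁻¹ = e ∧ e * a * e = b := by
  obtain ⟨l, hl⟩ := hodd
  set x := a * b with hx
  have hxn : x ^ (2 * l + 1) = 1 := hl ▸ pow_orderOf_eq_one x
  refine ⟨x ^ l * a, x ^ (l * (l + 1)), ?_, ?_⟩
  · have h := invol_semiconj ha hb (l * (l + 1))
    rw [← hx] at h
    calc x ^ (l * (l + 1)) * a * (x ^ (l * (l + 1)))⁻¹
        = x ^ (l * (l + 1)) * (x ^ (l * (l + 1)) * (x ^ (l * (l + 1)))⁻¹) * a
            * (x ^ (l * (l + 1)))⁻¹ := by group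
      _ = x ^ (l * (l + 1)) * x ^ (l * (l + 1)) * (a * x ^ (l * (l + 1)))
            * (x ^ (l * (l + 1)))⁻¹ := by rw [h]; group
      _ = x ^ (l * (l + 1)) * x ^ (l * (l + 1)) * a := by group
      _ = _ := by
        rw [← pow_add, show l * (l + 1) + l * (l + 1) = (2 * l + 1) * l + l by ring, pow_add,
          pow_mul, hxn, one_pow, one_mul]
  · have h := invol_semiconj ha hb l
    rw [← hx] at h
    have hxi : (x ^ (l + l))⁻¹ = x := inv_eq_of_mul_eq_one_right (by
      rw [← pow_succ, show l + l + 1 = 2 * l + 1 by ring, hxn])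
    calc x ^ l * a * a * (x ^ l * a) = x ^ l * (a * a) * x ^ l * a := by group
      _ = x ^ (l + l) * a := by rw [ha, mul_one, pow_add]
      _ = x⁻¹ * a := by rw [← hxi, inv_inv, hxi]
      _ = b := by
        rw [hx, mul_inv_rev, inv_eq_of_mul_eq_one_right ha, mul_assoc, ha, mul_one,
          inv_eq_of_mul_eq_one_right hb]

/-- An element of odd order in a 2-group is trivial. -/
theorem eq_one_of_odd {R : Subgroup G} (hR : IsPGroup 2 ↥R) {x : G} (hx : x ∈ R)
    (hodd : Odd (orderOf x)) : x = 1 := by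
  haveI : Fact (Nat.Prime 2) := ⟨Nat.prime_two⟩
  obtain ⟨k, hk⟩ := IsPGroup.iff_orderOf.1 hR ⟨x, hx⟩
  rw [Subgroup.orderOf_mk] at hk
  rw [← orderOf_eq_one_iff, hk]
  rcases Nat.eq_zero_or_pos k with rfl | h
  · exact pow_zero 2
  · exact absurd (hk ▸ hodd) (Nat.not_odd_iff_even.2 ((Nat.even_pow' h.ne').2 even_two))

/-- A finite group of even order has an odd number of involutions. -/
theorem odd_card_invol [Finite G] (hev : Even (Nat.card G)) :
    Odd (Nat.card {x : G // orderOf x = 2}) := by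
  classical
  haveI : Fact (Nat.Prime 2) := ⟨Nat.prime_two⟩
  haveI := Fintype.ofFinite G
  let f : Function.End G := fun x => x⁻¹
  have hf : f ^ 2 ^ 1 = 1 := by
    funext x
    show f (f x) = x
    exact inv_inv x
  have h := Equiv.Perm.card_fixedPoints_modEq hf
  have heq : f.fixedPoints = insert (1 : G) {x : G | orderOf x = 2} := by
    ext x
    show x⁻¹ = x ↔ x = 1 ∨ orderOf x = 2
    rw [inv_eq_iff_mul_eq_one, ← pow_two]
    constructor
    · intro hx
      by_cases h1 : x = 1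
      · exact Or.inl h1
      · exact Or.inr (orderOf_eq_prime hx h1)
    · rintro (rfl | hx)
      · simp
      · exact hx ▸ pow_orderOf_eq_one x
  rw [← Nat.card_eq_fintype_card, ← Nat.card_eq_fintype_card, Nat.card_coe_set_eq, heq,
    Set.ncard_insert_of_notMem (by simp)] at h
  have h' : ({x : G | orderOf x = 2}.ncard + 1) % 2 = 0 := by
    rw [← h, ← Nat.even_iff]; exact hev
  show Odd (Nat.card {x : G // orderOf x = 2})
  rw [← Nat.card_coe_set_eq] at h'
  exact Nat.odd_iff.2 (by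
    have : Nat.card ↥{x : G | orderOf x = 2} = Nat.card {x : G // orderOf x = 2} := rfl
    omega)

variable {Ω : Type*} [MulAction G Ω] [Finite G] [Finite Ω] [Nontrivial Ω] {z : G} {o : Ω}
  (hz2 : z * z = 1) (htr : ∀ q : Ω, ∃ k : G, q = k • o)
  (hfix : ∀ q : Ω, z • q = q ↔ q = o)
  (hpair : ∀ t : G, IsConj z t → t ≠ z → Commute t z → ∀ q : Ω, (z * t) • q = q → q = o)
include hz2

omit [Finite G] [Finite Ω] [Nontrivial Ω] in
theorem conj_sq {a : G} (ha : IsConj z a) : a * a = 1 := by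
  obtain ⟨c, rfl⟩ := isConj_iff.1 ha
  rw [show c * z * c⁻¹ * (c * z * c⁻¹) = c * (z * z) * c⁻¹ by group, hz2]
  group

include hfix

omit [Finite G] [Finite Ω] [Nontrivial Ω] hz2 in
theorem unique_fix {a : G} (ha : IsConj z a) : ∃ p : Ω, ∀ q : Ω, a • q = q ↔ q = p := by
  obtain ⟨c, rfl⟩ := isConj_iff.1 ha
  refine ⟨c • o, fun q => ?_⟩
  rw [mul_smul, mul_smul, ← eq_inv_smul_iff, hfix, inv_smul_eq_iff]

include hpair

omit [Finite G] [Finite Ω] [Nontrivial Ω] hz2 hfix in
theorem pair_fix {a b : G} (ha : IsConj z a) (hb : IsConj z b) (hne : a ≠ b) (hc : Commute a b)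
    {p q : Ω} (hp : (a * b) • p = p) (hq : (a * b) • q = q) : p = q := by
  obtain ⟨c, rfl⟩ := isConj_iff.1 ha
  set t := c⁻¹ * b * c with ht
  have hbt : b = c * t * c⁻¹ := by rw [ht]; group
  have key : ∀ r : Ω, (c * z * c⁻¹ * b) • r = r → c⁻¹ • r = o := by
    intro r hr
    refine hpair t (hb.trans (isConj_iff.2 ⟨c⁻¹, by rw [ht, inv_inv]⟩)) (fun h => hne ?_) ?_ _ ?_
    · rw [hbt, h]
    · show t * z = z * t
      have e : c * z * c⁻¹ * b = b * (c * z * c⁻¹) := hc
      calc t * z = c⁻¹ * (b * (c * z * c⁻¹)) * c := by rw [ht]; group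
        _ = c⁻¹ * (c * z * c⁻¹ * b) * c := by rw [e]
        _ = z * t := by rw [ht]; group
    · rw [hbt] at hr
      conv_rhs => rw [← hr]
      rw [← mul_smul, ← mul_smul]
      congr 1
      group
  exact smul_left_cancel c⁻¹ ((key p hp).trans (key q hq).symm)

/-- The product of two conjugates of `z` with different fixed points has odd order, likewise if
the product fixes two points. -/
theorem odd_order {a b : G} (ha : IsConj z a) (hb : IsConj z b) {p q : Ω} (hpq : p ≠ q)
    (h : (a • p = p ∧ b • q = q) ∨ ((a * b) • p = p ∧ (a * b) • q = q)) :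
    Odd (orderOf (a * b)) := by
  rw [← Nat.not_even_iff_odd]
  intro hev
  have ha2 := conj_sq hz2 ha
  obtain ⟨w, hw1, hw2, haw, hbw, hwz, hcj⟩ := exists_of_even ha2 (conj_sq hz2 hb) hev
  have hv : IsConj z (a * w) := by
    rcases hcj with hc | hc
    · exact ha.trans (isConj_iff.2 hc)
    · exact hb.trans (isConj_iff.2 hc)
  have hne : a ≠ a * w := fun h => hw1 (mul_eq_left.1 h.symm)
  have heq : a * (a * w) = w := by rw [← mul_assoc, ha2, one_mul]
  have hwfix : ∀ c : G, IsConj z c → Commute c w → ∀ r : Ω, c • r = r → w • r = r := by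
    intro c hc hcw r hr
    obtain ⟨s, hs⟩ := unique_fix hfix hc
    rw [(hs r).1 hr]
    refine (hs _).1 ?_
    rw [← mul_smul, hcw.eq, mul_smul, (hs s).2 rfl]
  refine hpq (pair_fix hpair ha hv hne
    (show Commute a (a * w) from (Commute.refl a).mul_right haw) ?_ ?_) <;> rw [heq]
  · rcases h with ⟨hp, -⟩ | ⟨hp, -⟩
    · exact hwfix a ha haw p hp
    · exact Subgroup.zpowers_le.2 (show a * b ∈ stabilizer G p from hp) hwz
  · rcases h with ⟨-, hq⟩ | ⟨-, hq⟩
    · exact hwfix b hb hbw q hq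
    · exact Subgroup.zpowers_le.2 (show a * b ∈ stabilizer G q from hq) hwz

include htr

theorem exists_swap {p q : Ω} (hpq : p ≠ q) :
    ∃ e : G, IsConj z e ∧ e • p = q ∧ e • q = p := by
  obtain ⟨k, rfl⟩ := htr p
  obtain ⟨l, rfl⟩ := htr q
  have hfx : ∀ c : G, (c * z * c⁻¹) • (c • o) = c • o := fun c => by
    rw [← mul_smul, inv_mul_cancel_right, mul_smul, (hfix o).2 rfl]
  have ha : IsConj z (k * z * k⁻¹) := isConj_iff.2 ⟨k, rfl⟩
  have hb : IsConj z (l * z * l⁻¹) := isConj_iff.2 ⟨l, rfl⟩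
  obtain ⟨e, c, hce, heb⟩ := exists_of_odd (conj_sq hz2 ha) (conj_sq hz2 hb)
    (odd_order hz2 hfix hpair ha hb hpq (Or.inl ⟨hfx k, hfx l⟩))
  have he : IsConj z e := ha.trans (isConj_iff.2 ⟨c, hce⟩)
  have hee := conj_sq hz2 he
  obtain ⟨r, hr⟩ := unique_fix hfix hb
  have h1 : e • k • o = l • o := by
    rw [(hr _).1 (hfx l)]
    refine (hr _).1 ?_
    rw [← heb]
    calc (e * (k * z * k⁻¹) * e) • e • k • o = e • (k * z * k⁻¹) • (e * e) • k • o := by
          simp only [mul_smul]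
      _ = e • k • o := by rw [hee, one_smul, hfx k]
  refine ⟨e, he, h1, ?_⟩
  rw [← h1, ← mul_smul, hee, one_smul]

/-- A conjugate of `z` centralizing a maximal two-point-fixing 2-subgroup and exchanging two of
its fixed points. -/
theorem exists_swap_centralizing {R : Subgroup G} (hR : IsPGroup 2 ↥R)
    (hmax : ∀ S : Subgroup G, IsPGroup 2 ↥S → R ≤ S →
      (∃ p q : Ω, p ≠ q ∧ (∀ r ∈ S, r • p = p) ∧ ∀ r ∈ S, r • q = q) → S = R)
    {p q : Ω} (hpq : p ≠ q) (hp : ∀ r ∈ R, r • p = p) (hq : ∀ r ∈ R, r • q = q) :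
    ∃ e : G, IsConj z e ∧ e ∈ Subgroup.centralizer (R : Set G) ∧ e • p = q ∧ e • q = p := by
  haveI : Fact (Nat.Prime 2) := ⟨Nat.prime_two⟩
  obtain ⟨e, he, hep, heq⟩ := exists_swap hz2 htr hfix hpair hpq
  have hee := conj_sq hz2 he
  set D := stabilizer G p ⊓ stabilizer G q with hD
  have hRD : R ≤ D := fun r hr => ⟨hp r hr, hq r hr⟩
  have heD : e ∈ Subgroup.normalizer (D : Set G) := by
    have : ∀ x ∈ D, e * x * e⁻¹ ∈ D := by
      rintro x ⟨h1, h2⟩
      have h1' : x • p = p := h1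
      have h2' : x • q = q := h2
      rw [inv_eq_of_mul_eq_one_right hee]
      refine ⟨?_, ?_⟩
      · show (e * x * e) • p = p
        rw [mul_smul, mul_smul, hep, h2', heq]
      · show (e * x * e) • q = q
        rw [mul_smul, mul_smul, heq, h1', hep]
    refine Subgroup.mem_normalizer_iff.2 fun x => ⟨this x, fun h => ?_⟩
    have h' := this _ h
    rw [inv_eq_of_mul_eq_one_right hee] at h'
    rwa [show e * (e * x * e) * e = (e * e) * x * (e * e) by group, hee, one_mul, mul_one] at h'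
  let f : MulAut ↥D := D.normalizerMonoidHom ⟨e, heD⟩
  have hf : ∀ x : ↥D, ((f x : ↥D) : G) = e * (x : G) * e⁻¹ := fun x => rfl
  have hff : f * f = 1 := by
    refine MulEquiv.ext fun x => Subtype.ext ?_
    show ((f (f x) : ↥D) : G) = (x : G)
    rw [hf, hf, show e * (e * (x : G) * e⁻¹) * e⁻¹ = (e * e) * x * (e * e)⁻¹ by group, hee]
    group
  haveI := Fintype.ofFinite (Sylow 2 ↥D)
  obtain ⟨P, hP⟩ := Equiv.Perm.exists_fixed_point_of_prime (p := 2) (n := 1)
    (α := Sylow 2 ↥D) (by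
      rw [← Nat.card_eq_fintype_card]
      intro hd
      exact absurd ((Nat.ModEq.dvd_iff (card_sylow_modEq_one 2 ↥D) dvd_rfl).1 hd)
        (by norm_num))
    (σ := MulAction.toPermHom (MulAut ↥D) (Sylow 2 ↥D) f)
    (by rw [pow_one, pow_two, ← map_mul, hff, map_one])
  let RS : Sylow 2 ↥D :=
    { toSubgroup := R.subgroupOf D
      isPGroup' := hR.comap_subtype
      is_maximal' := by
        intro S hS hRS
        have hle : R ≤ S.map D.subtype := fun r hr => ⟨⟨r, hRD hr⟩, hRS hr, rfl⟩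
        have := hmax _ (hS.map D.subtype) hle ⟨p, q, hpq,
          fun r hr => (Subgroup.map_subtype_le S hr).1, fun r hr => (Subgroup.map_subtype_le S hr).2⟩
        refine le_antisymm (fun x hx => ?_) hRS
        exact Subgroup.mem_subgroupOf.2 (this.le ⟨x, hx, rfl⟩) }
  obtain ⟨d, hd⟩ := MulAction.exists_smul_eq ↥D P RS
  have hinv : ∀ y ∈ (P : Subgroup ↥D), f y ∈ (P : Subgroup ↥D) := fun y hy => by
    have h := congrArg (fun S : Sylow 2 ↥D => (S : Subgroup ↥D)) hP
    exact h.le ⟨y, hy, rfl⟩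
  set e' := (d : G) * e * (d : G)⁻¹ with he'
  have he'c : IsConj z e' := he.trans (isConj_iff.2 ⟨(d : G), rfl⟩)
  have hdp : (d : G) • p = p := d.2.1
  have hdq : (d : G) • q = q := d.2.2
  have hp' : e' • p = q := by
    rw [he', mul_smul, mul_smul, inv_smul_eq_iff.2 hdp.symm, hep, hdq]
  have hq' : e' • q = p := by
    rw [he', mul_smul, mul_smul, inv_smul_eq_iff.2 hdq.symm, heq, hdp]
  have hnorm : ∀ r ∈ R, e' * r * e'⁻¹ ∈ R := by
    intro r hr
    have hmem : (⟨r, hRD hr⟩ : ↥D) ∈ ((d • P : Sylow 2 ↥D) : Subgroup ↥D) := by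
      rw [hd]; exact hr
    obtain ⟨y, hy, hy'⟩ := hmem
    have h2 : d * f y * d⁻¹ ∈ ((d • P : Sylow 2 ↥D) : Subgroup ↥D) := ⟨f y, hinv y hy, rfl⟩
    rw [hd] at h2
    have hry : (d : G) * y * (d : G)⁻¹ = r := congrArg Subtype.val hy'
    have h3 : (d : G) * (e * (y : G) * e⁻¹) * (d : G)⁻¹ ∈ R := h2
    rw [← hry, he']
    convert h3 using 1
    group
  refine ⟨e', he'c, Subgroup.mem_centralizer_iff.2 fun r hr => ?_, hp', hq'⟩
  have he2 := conj_sq hz2 he'c
  have hei : e'⁻¹ = e' := inv_eq_of_mul_eq_one_right he2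
  set v := r * e' * r⁻¹ with hv
  have hvc : IsConj z v := he'c.trans (isConj_iff.2 ⟨r, rfl⟩)
  have hvp : v • p = q := by
    rw [hv, mul_smul, mul_smul, inv_smul_eq_iff.2 (hp r hr).symm, hp', hq r hr]
  have hvq : v • q = p := by
    rw [hv, mul_smul, mul_smul, inv_smul_eq_iff.2 (hq r hr).symm, hq', hp r hr]
  have hodd := odd_order hz2 hfix hpair he'c hvc hpq (Or.inr
    ⟨by rw [mul_smul, hvp, hq'], by rw [mul_smul, hvq, hp']⟩)
  have hmem : e' * v ∈ R := by
    have h1 := hnorm r hr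
    rw [hei] at h1
    have := R.mul_mem h1 (R.inv_mem hr)
    rwa [hv, show e' * (r * e' * r⁻¹) = e' * r * e' * r⁻¹ by group]
  have h1 := eq_one_of_odd hR hmem hodd
  have h2 : v = e' := by
    rw [← hei, eq_inv_iff_mul_eq_one.2 (mul_eq_one_comm.1 h1)]
  rw [← h2]
  conv_lhs => rw [h2]
  conv_rhs => rw [hv]
  group

omit [Nontrivial Ω] htr hpair in
theorem odd_card_points : Odd (Nat.card Ω) := by
  haveI : Fact (Nat.Prime 2) := ⟨Nat.prime_two⟩
  have hP : IsPGroup 2 ↥(Subgroup.zpowers z) := by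
    have h2 : Nat.card ↥(Subgroup.zpowers z) ∣ 2 ^ 1 := by
      rw [Nat.card_zpowers, pow_one]
      exact orderOf_dvd_of_pow_eq_one (by rw [pow_two, hz2])
    obtain ⟨k, -, hk⟩ := (Nat.dvd_prime_pow Nat.prime_two).1 h2
    exact IsPGroup.of_card hk
  have h := hP.card_modEq_card_fixedPoints Ω
  have : fixedPoints ↥(Subgroup.zpowers z) Ω = {o} := by
    ext q
    rw [mem_fixedPoints, Set.mem_singleton_iff, ← hfix q]
    constructor
    · exact fun h => h ⟨z, Subgroup.mem_zpowers z⟩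
    · rintro h ⟨g, hg⟩
      exact Subgroup.zpowers_le.2 (show z ∈ stabilizer G q from h) hg
  rw [this, Nat.card_coe_set_eq, Set.ncard_singleton] at h
  exact Nat.odd_iff.2 h

/-- `z` has a conjugate centralizing a Sylow 2-subgroup. -/
theorem exists_central_conj : ∃ (a : G) (P : Sylow 2 G), IsConj z a ∧
    a ∈ Subgroup.centralizer ((P : Subgroup G) : Set G) := by
  classical
  haveI : Fact (Nat.Prime 2) := ⟨Nat.prime_two⟩
  -- a maximal 2-subgroup fixing two points
  obtain ⟨p0, q0, hpq0⟩ := exists_pair_ne Ω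
  obtain ⟨R, ⟨hR, hR2⟩, hRm⟩ := Set.Finite.exists_maximal
    (s := {R : Subgroup G | IsPGroup 2 ↥R ∧
      ∃ p q : Ω, p ≠ q ∧ (∀ r ∈ R, r • p = p) ∧ ∀ r ∈ R, r • q = q}) (Set.toFinite _)
    ⟨⊥, IsPGroup.of_bot, p0, q0, hpq0, fun r hr => by rw [Subgroup.mem_bot.1 hr, one_smul],
      fun r hr => by rw [Subgroup.mem_bot.1 hr, one_smul]⟩
  have hmax : ∀ S : Subgroup G, IsPGroup 2 ↥S → R ≤ S →
      (∃ p q : Ω, p ≠ q ∧ (∀ r ∈ S, r • p = p) ∧ ∀ r ∈ S, r • q = q) → S = R :=
    fun S h1 h2 h3 => le_antisymm (hRm ⟨h1, h3⟩ h2) h2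
  set N := Subgroup.normalizer (R : Set G) with hN
  have hRN : R ≤ N := Subgroup.le_normalizer
  haveI : (R.subgroupOf N).Normal := Subgroup.normal_in_normalizer
  set π := QuotientGroup.mk' (R.subgroupOf N) with hπ
  -- 2-extensions of R fix exactly one point
  have hext : ∀ i : ↥N, orderOf (π i) = 2 → ∃ γ : Ω, (∀ r ∈ R, r • γ = γ) ∧ (i : G) • γ = γ ∧
      ∀ δ : Ω, (∀ r ∈ R, r • δ = δ) → (i : G) • δ = δ → δ = γ := by
    intro i hi
    set S := ((Subgroup.zpowers (π i)).comap π).map N.subtype with hS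
    have hSp : IsPGroup 2 ↥S := by
      refine IsPGroup.map (IsPGroup.comap_of_ker_isPGroup
        (IsPGroup.of_card (n := 1) (by rw [Nat.card_zpowers, hi, pow_one])) π ?_) _
      rw [hπ, QuotientGroup.ker_mk']
      exact hR.comap_subtype
    have hRS : R ≤ S := fun r hr => ⟨⟨r, hRN hr⟩, by
      show π ⟨r, hRN hr⟩ ∈ Subgroup.zpowers (π i)
      rw [show π ⟨r, hRN hr⟩ = 1 from (QuotientGroup.eq_one_iff _).2 hr]
      exact one_mem _, rfl⟩
    have hiS : (i : G) ∈ S := ⟨i, Subgroup.mem_zpowers _, rfl⟩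
    obtain ⟨γ, hγ⟩ := hSp.nonempty_fixed_point_of_prime_not_dvd_card Ω (by
      rw [← even_iff_two_dvd, Nat.not_even_iff_odd]
      exact odd_card_points hz2 hfix)
    refine ⟨γ, fun r hr => hγ ⟨r, hRS hr⟩, hγ ⟨i, hiS⟩, fun δ hδ hiδ => ?_⟩
    by_contra hne
    have hsub : S ≤ stabilizer G δ := by
      rintro _ ⟨y, hy, rfl⟩
      obtain ⟨k, hk⟩ := Subgroup.mem_zpowers_iff.1 (show π y ∈ Subgroup.zpowers (π i) from hy)
      have : (i ^ k)⁻¹ * y ∈ R.subgroupOf N := by
        rw [← QuotientGroup.eq_one_iff]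
        show π ((i ^ k)⁻¹ * y) = 1
        rw [map_mul, map_inv, map_zpow, hk, inv_mul_cancel]
      have h1 : ((i : G) ^ k) * (((i ^ k)⁻¹ * y : ↥N) : G) = (y : G) := by
        rw [Subgroup.coe_mul, Subgroup.coe_inv, Subgroup.coe_zpow]; group
      show (y : G) ∈ stabilizer G δ
      rw [← h1]
      exact Subgroup.mul_mem _ (Subgroup.zpow_mem _ hiδ k) (hδ _ this)
    have := hmax S hSp hRS ⟨δ, γ, hne, fun r hr => hsub hr, fun r hr => hγ ⟨r, hr⟩⟩
    have hiR : π i = 1 := (QuotientGroup.eq_one_iff i).2 (show (i : G) ∈ R from this ▸ hiS)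
    rw [hiR, orderOf_one] at hi
    exact absurd hi (by norm_num)
  -- conjugates of z centralizing R
  set X := {a : G | IsConj z a ∧ a ∈ Subgroup.centralizer (R : Set G)} with hX
  have hXN : ∀ a ∈ X, a ∈ N := fun a ha => Subgroup.centralizer_le_normalizer _ ha.2
  have hfix2 : ∀ r ∈ R, ∃ p q : Ω, p ≠ q ∧ r • p = p ∧ r • q = q := fun r hr => by
    obtain ⟨p, q, hpq, hp, hq⟩ := hR2
    exact ⟨p, q, hpq, hp r hr, hq r hr⟩
  have hord : ∀ (a : G) (ha : a ∈ X), orderOf (π ⟨a, hXN a ha⟩) = 2 := by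
    intro a ha
    refine orderOf_eq_prime ?_ ?_
    · rw [← map_pow]
      convert π.map_one
      exact Subtype.ext (by rw [Subgroup.coe_pow, pow_two]; exact conj_sq hz2 ha.1)
    · intro h1
      have haR : a ∈ R :=
        (QuotientGroup.eq_one_iff (N := R.subgroupOf N) (⟨a, hXN a ha⟩ : ↥N)).1 h1
      obtain ⟨p, q, hpq, hp, hq⟩ := hfix2 a haR
      obtain ⟨s, hs⟩ := unique_fix hfix ha.1
      exact hpq (((hs p).1 hp).trans ((hs q).1 hq).symm)
  let F : ↥X → {x : ↥N ⧸ R.subgroupOf N // orderOf x = 2} :=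
    fun a => ⟨π ⟨a, hXN a a.2⟩, hord a a.2⟩
  have hbij : Function.Bijective F := by
    constructor
    · rintro ⟨a, ha⟩ ⟨b, hb⟩ h
      have h1 : π ⟨a, hXN a ha⟩ = π ⟨b, hXN b hb⟩ := congrArg Subtype.val h
      have h2 : a⁻¹ * b ∈ R :=
        (QuotientGroup.eq (s := R.subgroupOf N) (a := (⟨a, hXN a ha⟩ : ↥N))
          (b := (⟨b, hXN b hb⟩ : ↥N))).1 h1
      refine Subtype.ext ?_
      show a = b
      by_contra hne
      rw [inv_eq_of_mul_eq_one_right (conj_sq hz2 ha.1)] at h2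
      obtain ⟨p, q, hpq, hp, hq⟩ := hfix2 _ h2
      have hc : Commute a b := by
        have h3 := Subgroup.mem_centralizer_iff.1 ha.2 _ h2
        show a * b = b * a
        calc a * b = a * b * a * a := by rw [mul_assoc _ a a, conj_sq hz2 ha.1, mul_one]
          _ = a * (a * b) * a := by rw [h3]
          _ = _ := by rw [← mul_assoc a a, conj_sq hz2 ha.1, one_mul]
      exact hpq (pair_fix hpair ha.1 hb.1 hne hc hp hq)
    · rintro ⟨q, hq⟩
      obtain ⟨i, rfl⟩ := QuotientGroup.mk'_surjective (R.subgroupOf N) q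
      obtain ⟨γ, hγR, hγi, hγu⟩ := hext i hq
      obtain ⟨ε, hεR, hεγ⟩ : ∃ ε : Ω, (∀ r ∈ R, r • ε = ε) ∧ γ ≠ ε := by
        obtain ⟨p, q', hpq, hp, hq'⟩ := hR2
        by_cases h : γ = p
        · exact ⟨q', hq', h ▸ hpq⟩
        · exact ⟨p, hp, h⟩
      obtain ⟨u, hu, huc, huγ, -⟩ :=
        exists_swap_centralizing hz2 htr hfix hpair hR hmax hεγ hγR hεR
      have huX : u ∈ X := ⟨hu, huc⟩
      set u' : ↥N := ⟨u, hXN u huX⟩
      have hi2 : π i * π i = 1 := by rw [← pow_two, ← hq, pow_orderOf_eq_one]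
      have hu2 : π u' * π u' = 1 := by
        rw [← pow_two, ← hord u huX, pow_orderOf_eq_one]
      rcases Nat.even_or_odd (orderOf (π u' * π i)) with hev | hodd
      · exfalso
        obtain ⟨w, hw1, hw2, huw, hiw, -, -⟩ := exists_of_even hu2 hi2 hev
        obtain ⟨j, rfl⟩ := QuotientGroup.mk'_surjective (R.subgroupOf N) w
        obtain ⟨δ, hδR, hδj, hδu⟩ := hext j (orderOf_eq_prime (by rw [pow_two]; exact hw2) hw1)
        have key : ∀ k : ↥N, Commute (π k) (π j) → (k : G) • δ = δ := by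
          intro k hk
          refine hδu _ (fun r hr => ?_) ?_
          · have hr' : (k : G)⁻¹ * r * (k : G) ∈ R := by
              have := (Subgroup.mem_normalizer_iff.1 (N.inv_mem k.2) r).1 hr
              simpa using this
            rw [← mul_smul, show r * (k : G) = (k : G) * ((k : G)⁻¹ * r * (k : G)) by group,
              mul_smul, hδR _ hr']
          · have : (k * j)⁻¹ * (j * k) ∈ R.subgroupOf N := QuotientGroup.eq.1 (by
              show π (k * j) = π (j * k)
              rw [map_mul, map_mul, hk.eq])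
            have h1 : (j : G) * k = k * (j * (((k * j)⁻¹ * (j * k) : ↥N) : G)) := by
              simp only [Subgroup.coe_mul, Subgroup.coe_inv]; group
            have h3 : (((k * j)⁻¹ * (j * k) : ↥N) : G) • δ = δ := hδR _ this
            rw [← mul_smul, h1, mul_smul, mul_smul, h3, hδj]
        have h1 := hγu δ hδR (key i hiw)
        have h2 := key u' huw
        rw [h1] at h2
        exact hεγ (h2.symm.trans huγ)
      · obtain ⟨e, c, hce, hei⟩ := exists_of_odd hu2 hi2 hodd
        obtain ⟨g, rfl⟩ := QuotientGroup.mk'_surjective (R.subgroupOf N) e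
        refine ⟨⟨(g : G) * u * (g : G)⁻¹, hu.trans (isConj_iff.2 ⟨(g : G), rfl⟩),
          Subgroup.mem_centralizer_iff.2 fun r hr => ?_⟩, Subtype.ext ?_⟩
        · have hr' : (g : G)⁻¹ * r * (g : G) ∈ R := by
            have := (Subgroup.mem_normalizer_iff.1 (N.inv_mem g.2) r).1 hr
            simpa using this
          have h1 := Subgroup.mem_centralizer_iff.1 huc _ hr'
          calc r * ((g : G) * u * (g : G)⁻¹)
              = (g : G) * (((g : G)⁻¹ * r * (g : G)) * u) * (g : G)⁻¹ := by group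
            _ = (g : G) * (u * ((g : G)⁻¹ * r * (g : G))) * (g : G)⁻¹ := by rw [h1]
            _ = _ := by group
        · show π (g * u' * g⁻¹) = π i
          have hee : π g * π g = 1 := by
            rw [← hce, show c * π u' * c⁻¹ * (c * π u' * c⁻¹) = c * (π u' * π u') * c⁻¹ by group, hu2]
            group
          rw [map_mul, map_mul, map_inv, inv_eq_of_mul_eq_one_right hee]
          exact hei
  -- the number of these conjugates is odd
  have hev : Even (Nat.card (↥N ⧸ R.subgroupOf N)) := by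
    obtain ⟨p, q, hpq, hp, hq⟩ := hR2
    obtain ⟨u, hu, huc, -, -⟩ := exists_swap_centralizing hz2 htr hfix hpair hR hmax hpq hp hq
    exact even_iff_two_dvd.2 (hord u ⟨hu, huc⟩ ▸ orderOf_dvd_natCard _)
  have hXodd : Odd (Nat.card ↥X) := by
    rw [Nat.card_congr (Equiv.ofBijective F hbij)]
    exact odd_card_invol hev
  -- spread this to a Sylow subgroup
  obtain ⟨U, ⟨hU, hUodd⟩, hUm⟩ := Set.Finite.exists_maximal
    (s := {U : Subgroup G | IsPGroup 2 ↥U ∧
      Odd (Nat.card ↥{a : G | IsConj z a ∧ a ∈ Subgroup.centralizer (U : Set G)})})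
    (Set.toFinite _) ⟨R, hR, hXodd⟩
  obtain ⟨S, hUS⟩ := hU.exists_le_sylow
  set U1 := (S : Subgroup G) ⊓ Subgroup.normalizer (U : Set G) with hU1
  have hU1p : IsPGroup 2 ↥U1 := S.isPGroup'.to_le inf_le_left
  have hUU1 : U ≤ U1 := le_inf hUS Subgroup.le_normalizer
  have hodd1 : Odd (Nat.card ↥{a : G | IsConj z a ∧ a ∈ Subgroup.centralizer (U1 : Set G)}) := by
    set Y := {a : G | IsConj z a ∧ a ∈ Subgroup.centralizer (U : Set G)}
    letI act : MulAction ↥U1 ↥Y :=
      { smul := fun g a => ⟨(g : G) * a * (g : G)⁻¹, a.2.1.trans (isConj_iff.2 ⟨(g : G), rfl⟩),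
          Subgroup.mem_centralizer_iff.2 fun r hr => by
            have hr' : (g : G)⁻¹ * r * (g : G) ∈ U := by
              have := (Subgroup.mem_normalizer_iff.1 (Subgroup.inv_mem _ g.2.2) r).1 hr
              simpa using this
            have h1 := Subgroup.mem_centralizer_iff.1 a.2.2 _ hr'
            calc r * ((g : G) * a * (g : G)⁻¹)
                = (g : G) * (((g : G)⁻¹ * r * (g : G)) * a) * (g : G)⁻¹ := by group
              _ = (g : G) * (a * ((g : G)⁻¹ * r * (g : G))) * (g : G)⁻¹ := by rw [h1]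
              _ = _ := by group⟩
        one_smul := fun a => Subtype.ext (show (1 : G) * a * 1⁻¹ = a by group)
        mul_smul := fun g h a => Subtype.ext (show ((g : G) * h) * a * ((g : G) * h)⁻¹ =
          (g : G) * ((h : G) * a * (h : G)⁻¹) * (g : G)⁻¹ by group) }
    have hmod := hU1p.card_modEq_card_fixedPoints ↥Y
    rw [Nat.odd_iff] at hUodd ⊢
    rw [← hUodd]
    refine Eq.trans ?_ hmod.symm
    congr 1
    exact Nat.card_congr
      { toFun := fun a => ⟨⟨a.1, a.2.1, Subgroup.centralizer_le hUU1 a.2.2⟩, fun g => Subtype.ext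
          (show (g : G) * a.1 * (g : G)⁻¹ = a.1 by
            rw [Subgroup.mem_centralizer_iff.1 a.2.2 _ g.2, mul_inv_cancel_right])⟩
        invFun := fun a => ⟨a.1.1, a.1.2.1, Subgroup.mem_centralizer_iff.2 fun g hg =>
          mul_inv_eq_iff_eq_mul.1 (congrArg Subtype.val (a.2 ⟨g, hg⟩) :)⟩
        left_inv := fun a => rfl
        right_inv := fun a => rfl }
  have hUeq : U1 = U := le_antisymm (hUm ⟨hU1p, hodd1⟩ hUU1) hUU1
  have hUS' : U = S := by
    by_contra hne
    have hlt : U.subgroupOf (S : Subgroup G) < ⊤ := lt_top_iff_ne_top.2 fun h =>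
      hne (le_antisymm hUS (Subgroup.subgroupOf_eq_top.1 h))
    haveI := S.isPGroup'.isNilpotent
    obtain ⟨x, hx, hxU⟩ := SetLike.exists_of_lt
      (Group.normalizerCondition_of_isNilpotent (U.subgroupOf (S : Subgroup G)) hlt)
    refine hxU (hUeq.le ⟨x.2, Subgroup.mem_normalizer_iff.2 fun g => ?_⟩)
    constructor
    · intro hg
      exact (Subgroup.mem_normalizer_iff.1 hx ⟨g, hUS hg⟩).1 hg
    · intro hg
      have hgS : g ∈ (S : Subgroup G) := by
        have := (S : Subgroup G).mul_mem (Subgroup.mul_mem _ ((S : Subgroup G).inv_mem x.2) (hUS hg)) x.2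
        simpa [mul_assoc] using this
      exact (Subgroup.mem_normalizer_iff.1 hx ⟨g, hgS⟩).2 hg
  obtain ⟨⟨a, haz, hac⟩⟩ := (Nat.card_pos_iff.1 hUodd.pos).1
  exact ⟨a, S, haz, hUS' ▸ hac⟩

end Cfsg.Agent.Lib.UniquePointInvolution
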